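import Groth.Agent.BertiniAff.Bad
import Groth.Agent.BertiniAff.Quot
import Groth.Agent.SmoothDim.Basic

/-!
# A general linear map kills no vector of small families
-/

set_option autoImplicit false
set_option linter.style.haveILetI false
set_option linter.unusedVariables false
set_option backward.isDefEq.respectTransparency false
set_option backward.isDefEq.respectTransparency.types false

universe u

open MvPolynomial TensorProduct Matrix KaehlerDifferential

noncomputable section

namespace Groth.Agent.LinProj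

variable {k : Type u} [Field k]

/-- The image of a vector under a coefficient matrix. -/
def lin {m q : ℕ} (A : Fin m → Fin q → k) {R : Type*} [CommRing R] (c0 : k →+* R) (v : Fin q → R) (b : Fin m) : R :=
  ∑ l, c0 (A b l) * v l

theorem map_lin {m q : ℕ} (A : Fin m → Fin q → k) {R R' : Type*} [CommRing R] [CommRing R'] (φ : R →+* R')
    (c0 : k →+* R) (v : Fin q → R) (b : Fin m) : φ (lin A c0 v b) = lin A (φ.comp c0) (fun l => φ (v l)) b := by
  simp [lin, map_sum, map_mul]

theorem lin_smul {m q : ℕ} (A : Fin m → Fin q → k) {R : Type*} [CommRing R] (c0 : k →+* R) (v : Fin q → R) (c : R)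
    (b : Fin m) : lin A c0 (fun l => c * v l) b = c * lin A c0 v b := by
  simp only [lin, Finset.mul_sum]
  exact Finset.sum_congr rfl fun l _ => by ring

theorem lin_add {m q : ℕ} (A : Fin m → Fin q → k) {R : Type*} [CommRing R] (c0 : k →+* R) (v v' : Fin q → R)
    (b : Fin m) : lin A c0 (fun l => v l + v' l) b = lin A c0 v b + lin A c0 v' b := by
  simp only [lin, mul_add, Finset.sum_add_distrib]

theorem ringKrullDim_away_le {B : Type u} [CommRing B] (f : B) :
    ringKrullDim (Localization.Away f) ≤ ringKrullDim B :=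
  Order.krullDim_le_of_strictMono (PrimeSpectrum.comap (algebraMap B (Localization.Away f))) fun P Q h =>
    lt_of_le_of_ne (Ideal.comap_mono h.le) fun e =>
      h.ne (PrimeSpectrum.localization_comap_injective (Localization.Away f) (Submonoid.powers f) e)

theorem ringKrullDim_mvPolynomial_le {B : Type u} [CommRing B] [IsNoetherianRing B] {e : ℕ}
    (hB : ringKrullDim B ≤ e) (σ : Type u) [Finite σ] :
    ringKrullDim (MvPolynomial σ B) ≤ ((e + Nat.card σ : ℕ) : WithBot ℕ∞) := by
  rw [MvPolynomial.ringKrullDim_of_isNoetherianRing, Nat.cast_add]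
  exact add_le_add_left hB _

/-- A polynomial in the coefficients of a linear map detecting whether it kills a vector of the family. -/
theorem exists_poly {B : Type u} [CommRing B] [Algebra k B] [Algebra.FiniteType k B] {m q : ℕ}
    (hB : ringKrullDim B ≤ m) (w : Fin q → B) :
    ∃ g : MvPolynomial (Fin (m + 1) × Fin q) k, g ≠ 0 ∧ ∀ (A : Fin (m + 1) → Fin q → k),
      MvPolynomial.eval (fun p => A p.1 p.2) g ≠ 0 → ∀ (K : Type u) [Field K] [Algebra k K] (ev : B →ₐ[k] K),
        (∀ b, lin A (algebraMap k K) (fun l => ev (w l)) b = 0) → ∀ l, ev (w l) = 0 := by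
  classical
  let σ := ULift.{u} (Fin (m + 1))
  let τ := ULift.{u} (Fin (m + 1) × Fin q)
  have h : ∀ a : Fin q, ∃ g : MvPolynomial (Fin (m + 1) × Fin q) k, g ≠ 0 ∧
      ∀ (A : Fin (m + 1) → Fin q → k), MvPolynomial.eval (fun p => A p.1 p.2) g ≠ 0 →
      ∀ (K : Type u) [Field K] [Algebra k K] (ev : B →ₐ[k] K),
        (∀ b, lin A (algebraMap k K) (fun l => ev (w l)) b = 0) → ev (w a) = 0 := by
    intro a
    haveI : Algebra.FiniteType k (Localization.Away (w a)) :=
      Algebra.FiniteType.trans (S := B) inferInstance inferInstance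
    let al := algebraMap B (Localization.Away (w a))
    obtain ⟨wi, hwi⟩ := IsLocalization.Away.algebraMap_isUnit (S := Localization.Away (w a)) (w a)
    let M : Matrix σ τ (Localization.Away (w a)) :=
      Matrix.of fun b p => if p.down.1 = b.down then al (w p.down.2) else 0
    let N : Matrix τ σ (Localization.Away (w a)) :=
      Matrix.of fun p b => if p.down = (b.down, a) then ((wi⁻¹ : (Localization.Away (w a))ˣ) : _) else 0
    have hMN : M * N = 1 := by
      ext b b'
      rw [Matrix.mul_apply, Finset.sum_eq_single (⟨(b'.down, a)⟩ : τ)]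
      · rcases eq_or_ne b b' with e | e
        · subst e
          simp [M, N, al, ← hwi]
        · have : b'.down ≠ b.down := fun h => e (ULift.ext _ _ h.symm)
          simp [M, N, this, Matrix.one_apply_ne e]
      · intro p _ hp
        simp [N, show p.down ≠ (b'.down, a) from fun h => hp (ULift.ext _ _ h)]
      · simp
    obtain ⟨g, hg0, hg⟩ := BertiniAff.exists_ne_zero_eval (k := k) m ((ringKrullDim_away_le _).trans hB) σ τ
      (by simp [σ]) M N hMN
    refine ⟨MvPolynomial.rename ULift.down g,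
      (map_ne_zero_iff _ (MvPolynomial.rename_injective _ ULift.down_injective)).2 hg0,
      fun A hA K _ _ ev hev => ?_⟩
    by_contra hne
    let ev' : Localization.Away (w a) →ₐ[k] K :=
      { IsLocalization.Away.lift (g := ev.toRingHom) (w a) (isUnit_iff_ne_zero.2 hne) with
        commutes' := fun c => by
          show IsLocalization.Away.lift (g := ev.toRingHom) (w a) _ (algebraMap k _ c) = _
          rw [IsScalarTower.algebraMap_apply k B (Localization.Away (w a)), IsLocalization.Away.lift_eq]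
          exact ev.commutes c }
    have hev' : ∀ x, ev' (al x) = ev x := fun x => IsLocalization.Away.lift_eq (g := ev.toRingHom) (w a) (isUnit_iff_ne_zero.2 hne) x
    refine hA ?_
    rw [MvPolynomial.eval_rename]
    refine hg _ K ev' (funext fun b => ?_)
    rw [Pi.zero_apply, ← hev b.down, lin, Matrix.mulVec, dotProduct,
      ← (Equiv.ulift (α := Fin (m + 1) × Fin q)).symm.sum_comp, Fintype.sum_prod_type,
      Finset.sum_eq_single b.down (fun b' _ hb' => by
        refine Finset.sum_eq_zero fun l _ => ?_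
        simp [M, hb'])
        (by simp)]
    refine Finset.sum_congr rfl fun l _ => ?_
    simp [M, hev', mul_comm]
  choose g hg0 hg using h
  refine ⟨∏ a, g a, Finset.prod_ne_zero_iff.2 fun a _ => hg0 a, fun A hA K _ _ ev hev a => hg a A ?_ K ev hev⟩
  rw [map_prod] at hA
  exact Finset.prod_ne_zero_iff.1 hA a (Finset.mem_univ a)

variable {S : Type u} [CommRing S] [Algebra k S] {d q : ℕ}

/-- No base points. -/
theorem exists_poly_base [Algebra.FiniteType k S] (hS : ringKrullDim S ≤ d) (γ : Fin q → S) :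
    ∃ g : MvPolynomial (Fin (2 * d + 2) × Fin q) k, g ≠ 0 ∧ ∀ (A : Fin (2 * d + 2) → Fin q → k),
      MvPolynomial.eval (fun p => A p.1 p.2) g ≠ 0 → ∀ (K : Type u) [Field K] (φ : S →+* K),
        (∀ b, lin A (φ.comp (algebraMap k S)) (fun l => φ (γ l)) b = 0) → ∀ l, φ (γ l) = 0 := by
  obtain ⟨g, hg0, hg⟩ := exists_poly (k := k) (m := 2 * d + 1)
    (hS.trans (Nat.cast_le.2 (by omega : d ≤ 2 * d + 1))) γ
  refine ⟨g, hg0, fun A hA K _ φ h => ?_⟩
  letI : Algebra k K := (φ.comp (algebraMap k S)).toAlgebra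
  exact hg A hA K (AlgHom.mk φ fun _ => rfl) h

variable {S' : Type u} [CommRing S'] [Algebra k S'] {r r' : ℕ}

/-- Secants. -/
theorem exists_poly_pair [Algebra.IsStandardSmoothOfRelativeDimension r k S]
    [Algebra.IsStandardSmoothOfRelativeDimension r' k S'] (hr : r ≤ d) (hr' : r' ≤ d) (γ : Fin q → S)
    (γ' : Fin q → S') :
    ∃ g : MvPolynomial (Fin (2 * d + 2) × Fin q) k, g ≠ 0 ∧ ∀ (A : Fin (2 * d + 2) → Fin q → k),
      MvPolynomial.eval (fun p => A p.1 p.2) g ≠ 0 → ∀ (K : Type u) [Field K] (φ : S →+* K) (φ' : S' →+* K),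
        φ.comp (algebraMap k S) = φ'.comp (algebraMap k S') → ∀ μ : K,
        (∀ b, lin A (φ.comp (algebraMap k S)) (fun l => φ (γ l) - μ * φ' (γ' l)) b = 0) →
          ∀ l, φ (γ l) = μ * φ' (γ' l) := by
  haveI : Algebra.IsStandardSmooth k S := Algebra.IsStandardSmoothOfRelativeDimension.isStandardSmooth r
  haveI : Algebra.IsStandardSmoothOfRelativeDimension (r' + r) k (S ⊗[k] S') :=
    Algebra.IsStandardSmoothOfRelativeDimension.trans r r' k S (S ⊗[k] S')
  haveI : Algebra.IsStandardSmooth k (S ⊗[k] S') :=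
    Algebra.IsStandardSmoothOfRelativeDimension.isStandardSmooth (r' + r)
  haveI : IsNoetherianRing (S ⊗[k] S') := Algebra.FiniteType.isNoetherianRing k _
  have hT : ringKrullDim (S ⊗[k] S') ≤ ((r' + r : ℕ) : WithBot ℕ∞) := by
    rcases subsingleton_or_nontrivial (S ⊗[k] S') with h | h
    · simp [ringKrullDim_eq_bot_of_subsingleton]
    · exact (SmoothDim.ringKrullDim_eq k _ (r' + r)).le
  let B := MvPolynomial PUnit.{u + 1} (S ⊗[k] S')
  haveI : Algebra.FiniteType k B := Algebra.FiniteType.trans (S := S ⊗[k] S') inferInstance inferInstance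
  obtain ⟨g, hg0, hg⟩ := exists_poly (k := k) (B := B) (m := 2 * d + 1)
    ((ringKrullDim_mvPolynomial_le hT PUnit.{u + 1}).trans (Nat.cast_le.2 (by simp; omega)))
    fun l => MvPolynomial.C (γ l ⊗ₜ[k] (1 : S')) - MvPolynomial.X PUnit.unit * MvPolynomial.C ((1 : S) ⊗ₜ[k] γ' l)
  refine ⟨g, hg0, fun A hA K _ φ φ' hφ μ h l => ?_⟩
  letI : Algebra k K := (φ.comp (algebraMap k S)).toAlgebra
  let φa : S →ₐ[k] K := AlgHom.mk φ fun _ => rfl
  let φb : S' →ₐ[k] K := AlgHom.mk φ' fun c => (RingHom.congr_fun hφ c).symm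
  let π : S ⊗[k] S' →ₐ[k] K := Algebra.TensorProduct.lift φa φb fun _ _ => Commute.all _ _
  let ev : B →ₐ[k] K :=
    { MvPolynomial.eval₂Hom π.toRingHom (fun _ => μ) with
      commutes' := fun c => by
        show MvPolynomial.eval₂Hom π.toRingHom (fun _ => μ) (algebraMap k B c) = _
        rw [IsScalarTower.algebraMap_apply k (S ⊗[k] S') B, MvPolynomial.algebraMap_eq, MvPolynomial.eval₂Hom_C]
        exact π.commutes c }
  have hev : ∀ l, ev (MvPolynomial.C (γ l ⊗ₜ[k] (1 : S')) - MvPolynomial.X PUnit.unit *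
      MvPolynomial.C ((1 : S) ⊗ₜ[k] γ' l)) = φ (γ l) - μ * φ' (γ' l) := fun l => by
    show MvPolynomial.eval₂Hom π.toRingHom (fun _ => μ) _ = _
    rw [map_sub, map_mul, MvPolynomial.eval₂Hom_C, MvPolynomial.eval₂Hom_X', MvPolynomial.eval₂Hom_C]
    show π _ - μ * π _ = _
    simp only [π, Algebra.TensorProduct.lift_tmul, map_one, mul_one, one_mul]
    rfl
  have h' := hg A hA K ev (fun b => by simp only [hev]; exact h b) l
  rw [hev] at h'
  exact sub_eq_zero.1 h'

/-- Tangents. -/
theorem exists_poly_tangent [Algebra.IsStandardSmoothOfRelativeDimension r k S] (hr : r ≤ d) (γ : Fin q → S) :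
    ∃ g : MvPolynomial (Fin (2 * d + 2) × Fin q) k, g ≠ 0 ∧ ∀ (A : Fin (2 * d + 2) → Fin q → k),
      MvPolynomial.eval (fun p => A p.1 p.2) g ≠ 0 → ∀ (K : Type u) [Field K] (φ : S →+* K) (δ : S →+ K),
        (∀ x y, δ (x * y) = φ x * δ y + φ y * δ x) → (∀ c : k, δ (algebraMap k S c) = 0) → ∀ μ : K,
        (∀ b, lin A (φ.comp (algebraMap k S)) (fun l => δ (γ l) + μ * φ (γ l)) b = 0) →
          ∀ l, δ (γ l) + μ * φ (γ l) = 0 := by
  rcases subsingleton_or_nontrivial S with hs | hs
  · refine ⟨1, one_ne_zero, fun A _ K _ φ => ?_⟩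
    exact absurd (by rw [← map_one φ, Subsingleton.elim (1 : S) 0, map_zero]) (one_ne_zero (α := K))
  haveI : Algebra.IsStandardSmooth k S := Algebra.IsStandardSmoothOfRelativeDimension.isStandardSmooth r
  haveI : IsNoetherianRing S := Algebra.FiniteType.isNoetherianRing k _
  let β : Module.Basis (Fin r) S Ω[S⁄k] := Module.finBasisOfFinrankEq S _ (BertiniAff.finrank_kaehler r)
  let T := ULift.{u} (Option (Fin r))
  let B := MvPolynomial T S
  haveI : Algebra.FiniteType k B := Algebra.FiniteType.trans (S := S) inferInstance inferInstance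
  obtain ⟨g, hg0, hg⟩ := exists_poly (k := k) (B := B) (m := 2 * d + 1)
    ((ringKrullDim_mvPolynomial_le (SmoothDim.ringKrullDim_eq k S r).le T).trans
      (Nat.cast_le.2 (by simp [T]; omega)))
    fun l => (∑ t, MvPolynomial.C (β.repr (D k S (γ l)) t) * MvPolynomial.X (⟨some t⟩ : T)) +
      MvPolynomial.X (⟨none⟩ : T) * MvPolynomial.C (γ l)
  refine ⟨g, hg0, fun A hA K _ φ δ hδ hδk μ h l => ?_⟩
  letI : Algebra k K := (φ.comp (algebraMap k S)).toAlgebra
  letI : Algebra S K := φ.toAlgebra
  haveI : IsScalarTower k S K := IsScalarTower.of_algebraMap_eq fun _ => rfl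
  let Δ : Derivation k S K :=
    Derivation.mk'
      { toFun := δ
        map_add' := δ.map_add
        map_smul' := fun c x => by
          rw [Algebra.smul_def, hδ, hδk, mul_zero, add_zero, RingHom.id_apply, Algebra.smul_def]
          rfl }
      fun x y => by
        show δ (x * y) = x • δ y + y • δ x
        rw [hδ, Algebra.smul_def, Algebra.smul_def]
        rfl
  let L := Δ.liftKaehlerDifferential
  let ev : B →ₐ[k] K :=
    { MvPolynomial.eval₂Hom φ (fun t : T => Option.elim t.down μ fun i => L (β i)) with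
      commutes' := fun c => by
        show MvPolynomial.eval₂Hom φ _ (algebraMap k B c) = _
        rw [IsScalarTower.algebraMap_apply k S B, MvPolynomial.algebraMap_eq, MvPolynomial.eval₂Hom_C]
        rfl }
  have hev : ∀ l, ev ((∑ t, MvPolynomial.C (β.repr (D k S (γ l)) t) * MvPolynomial.X (⟨some t⟩ : T)) +
      MvPolynomial.X (⟨none⟩ : T) * MvPolynomial.C (γ l)) = δ (γ l) + μ * φ (γ l) := fun l => by
    show MvPolynomial.eval₂Hom φ _ _ = _
    simp only [map_add, map_sum, map_mul, MvPolynomial.coe_eval₂Hom, MvPolynomial.eval₂_X,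
      Option.elim]
    refine congrArg₂ (· + ·) ?_ (congrArg (μ * ·) (MvPolynomial.eval₂_C _ _ _))
    conv_rhs => rw [show δ (γ l) = L (D k S (γ l)) from (Derivation.liftKaehlerDifferential_comp_D Δ (γ l)).symm,
      ← β.sum_repr (D k S (γ l))]
    rw [map_sum]
    exact Finset.sum_congr rfl fun t _ => by
      rw [map_smul, Algebra.smul_def]
      exact congrArg (· * L (β t)) (MvPolynomial.eval₂_C _ _ _)
  have h' := hg A hA K ev (fun b => by simp only [hev]; exact h b) l
  rwa [hev] at h'

end Groth.Agent.LinProj
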