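import Groth.Agent.LinProj.Pt
import Groth.Agent.LinProj.Gen
import Groth.Agent.SegreX.Coord
import Mathlib.AlgebraicGeometry.Morphisms.Smooth
import Mathlib.AlgebraicGeometry.Morphisms.ClosedImmersion
import Mathlib.RingTheory.Smooth.StandardSmoothOfFree

/-!
# Standard smooth charts of an embedded scheme
-/

set_option autoImplicit false
set_option linter.style.haveILetI false
set_option backward.isDefEq.respectTransparency false
set_option backward.isDefEq.respectTransparency.types false

universe u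

open AlgebraicGeometry HomogeneousLocalization CategoryTheory CategoryTheory.Limits MvPolynomial TopologicalSpace

noncomputable section

namespace Groth.Agent.LinProj

open Groth.Agent.ProjPt

variable {k : Type u} [Field k] {X : Scheme.{u}} {N : ℕ}

/-- A standard smooth affine chart inside a coordinate chart. -/
structure Chart (ι : X ⟶ CohB1.ProjSpace N k) (d : ℕ) where
  S : Type u
  [cS : CommRing S]
  [aS : Algebra k S]
  emb : Spec (CommRingCat.of S) ⟶ X
  [oi : IsOpenImmersion emb]
  j : Fin (N + 1)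
  ψ : CR N k j →+* S
  hψ : Spec.map (CommRingCat.ofHom ψ) ≫ ch N k j = emb ≫ ι
  hσ : ψ.comp (cst j) = algebraMap k S
  r : ℕ
  hr : r ≤ d
  [sm : Algebra.IsStandardSmoothOfRelativeDimension r k S]

attribute [instance] Chart.cS Chart.aS Chart.oi Chart.sm

namespace Chart

variable {ι : X ⟶ CohB1.ProjSpace N k} {d : ℕ} (c : Chart ι d)

/-- The homogeneous coordinates. -/
def γ (l : Fin (N + 1)) : c.S := c.ψ (crd c.j l)

theorem γ_j : c.γ c.j = 1 := by rw [γ, crd_self, map_one]

theorem isUnit_map_γ_j {R : Type u} [CommRing R] (φ : c.S →+* R) : IsUnit (φ (c.γ c.j)) := by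
  rw [γ_j, map_one]
  exact isUnit_one

theorem emb_comp {R : Type u} [CommRing R] (φ : c.S →+* R) :
    Spec.map (CommRingCat.ofHom φ) ≫ c.emb ≫ ι =
      pR (φ.comp (algebraMap k c.S)) (fun l => φ (c.γ l)) c.j (c.isUnit_map_γ_j φ) := by
  rw [← c.hψ, chart_eq, map_pR]
  simp only [c.hσ]
  rfl

instance finiteType : Algebra.FiniteType k c.S :=
  haveI : Algebra.IsStandardSmooth k c.S := Algebra.IsStandardSmoothOfRelativeDimension.isStandardSmooth c.r
  inferInstance

theorem dim_le : ringKrullDim c.S ≤ d := by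
  rcases subsingleton_or_nontrivial c.S with h | h
  · simp [ringKrullDim_eq_bot_of_subsingleton]
  · exact (SmoothDim.ringKrullDim_eq k c.S c.r).le.trans (Nat.cast_le.2 c.hr)

end Chart

/-- Every point has a chart. -/
theorem exists_chart (ι : X ⟶ CohB1.ProjSpace N k) [Smooth (ι ≫ CohB1.ProjSpace.toSpec N k)] {d : ℕ}
    (hd : topologicalKrullDim X ≤ d) (x : X) : ∃ c : Chart ι d, x ∈ Set.range c.emb := by
  obtain ⟨j, hj⟩ := Opens.mem_iSup.1 ((Proj.iSup_basicOpen_eq_top (CohB1.polyGrading N k)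
    (fun j : Fin (N + 1) => (MvPolynomial.X j : MvPolynomial (Fin (N + 1)) k))
    (SegreX.irrelevant_le_span N k)).ge (Set.mem_univ (ι x)))
  obtain ⟨_, ⟨V, hV, rfl⟩, hxV, hVU⟩ := X.isBasis_affineOpens.exists_subset_of_mem_open
    (show x ∈ ι ⁻¹ᵁ Proj.basicOpen (CohB1.polyGrading N k) (MvPolynomial.X j) from hj) (Opens.isOpen _)
  let S0 : Type u := Γ(X, V)
  let q : Spec Γ(X, V) ⟶ Spec (CommRingCat.of (CR N k j)) := IsOpenImmersion.lift (ch N k j) (hV.fromSpec ≫ ι) (by
    rintro _ ⟨z, rfl⟩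
    show ι (hV.fromSpec z) ∈ ((ch N k j).opensRange : Set (CohB1.ProjSpace N k))
    rw [range_ch]
    exact hVU (hV.range_fromSpec ▸ Set.mem_range_self z))
  let ψ0 : CR N k j →+* S0 := (Spec.preimage q).hom
  have hψ0 : Spec.map (CommRingCat.ofHom ψ0) ≫ ch N k j = hV.fromSpec ≫ ι := by
    rw [show CommRingCat.ofHom ψ0 = Spec.preimage q from rfl, Spec.map_preimage]
    exact IsOpenImmersion.lift_fac _ _ _
  letI : Algebra k S0 := (ψ0.comp (cst j)).toAlgebra
  have hst : Spec.map (CommRingCat.ofHom (algebraMap k S0)) = hV.fromSpec ≫ ι ≫ CohB1.ProjSpace.toSpec N k := by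
    rw [← reassoc_of% hψ0, ← Category.assoc, chart_eq, pR_toSpec]
    rfl
  haveI : Algebra.Smooth k S0 := by
    rw [← RingHom.smooth_algebraMap]
    have h : Smooth (Spec.map (CommRingCat.ofHom (algebraMap k S0))) := by rw [hst]; infer_instance
    exact (HasRingHomProperty.Spec_iff (P := @Smooth)).1 h
  obtain ⟨z, hz⟩ : x ∈ Set.range hV.fromSpec := hV.range_fromSpec ▸ hxV
  obtain ⟨f, hf, hsm⟩ := Algebra.IsSmoothAt.exists_notMem_isStandardSmooth k (S := S0) z.asIdeal
  let S := Localization.Away f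
  obtain ⟨z', hz'⟩ : z ∈ Set.range (PrimeSpectrum.comap (algebraMap S0 S)) := by
    rw [PrimeSpectrum.localization_away_comap_range S f]
    exact hf
  haveI : Nontrivial S := PrimeSpectrum.nonempty_iff_nontrivial.1 ⟨z'⟩
  haveI hoi : IsOpenImmersion (Spec.map (CommRingCat.ofHom (algebraMap S0 S))) :=
    IsOpenImmersion.of_isLocalization f
  let emb : Spec (CommRingCat.of S) ⟶ X := Spec.map (CommRingCat.ofHom (algebraMap S0 S)) ≫ hV.fromSpec
  obtain ⟨ι', σ', _, _, ⟨P⟩⟩ := hsm.out
  haveI hP : Algebra.IsStandardSmoothOfRelativeDimension P.dimension k S :=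
    ⟨ι', σ', inferInstance, inferInstance, P, rfl⟩
  have hr : P.dimension ≤ d := by
    have h1 := (emb.isOpenEmbedding.isInducing.topologicalKrullDim_le).trans hd
    have h2 : topologicalKrullDim (PrimeSpectrum S) ≤ (d : WithBot ℕ∞) := h1
    rw [PrimeSpectrum.topologicalKrullDim_eq_ringKrullDim, SmoothDim.ringKrullDim_eq k S P.dimension] at h2
    exact_mod_cast h2
  refine ⟨{ S := S, emb := emb, j := j, ψ := (algebraMap S0 S).comp ψ0, hψ := ?_, hσ := ?_, r := P.dimension,
            hr := hr }, z', ?_⟩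
  · rw [CommRingCat.ofHom_comp, Spec.map_comp, Category.assoc, hψ0, Category.assoc]
  · rw [RingHom.comp_assoc]
    exact (IsScalarTower.algebraMap_eq k S0 S).symm
  · show hV.fromSpec (Spec.map (CommRingCat.ofHom (algebraMap S0 S)) z') = x
    rw [← hz, ← hz']
    rfl

end Groth.Agent.LinProj
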