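import Groth.Agent.LinProj.Data
import Groth.Agent.PnCoh.Chow.Proper
import Mathlib.AlgebraicGeometry.ZariskisMainTheorem
import Mathlib.AlgebraicGeometry.Morphisms.UniversallyInjective
import Mathlib.AlgebraicGeometry.Morphisms.FormallyUnramified
import Mathlib.AlgebraicGeometry.Morphisms.IsIso

/-!
# A general linear projection of a smooth projective scheme
-/

set_option autoImplicit false
set_option linter.style.haveILetI false
set_option backward.isDefEq.respectTransparency false
set_option backward.isDefEq.respectTransparency.types false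

universe u

open AlgebraicGeometry HomogeneousLocalization CategoryTheory CategoryTheory.Limits MvPolynomial TopologicalSpace

noncomputable section

namespace Groth.Agent.LinProj

open Groth.Agent.ProjPt

variable {k : Type u} [Field k] {X : Scheme.{u}} {N d m : ℕ} {ι : X ⟶ CohB1.ProjSpace N k}

/-- What is required of the matrix. -/
structure Good {I : Type u} (c : I → Chart ι d) (A : Fin (m + 1) → Fin (N + 1) → k) : Prop where
  base : ∀ i (K : Type u) [Field K] (φ : (c i).S →+* K),
    (∀ b, lin A (φ.comp (algebraMap k (c i).S)) (fun l => φ ((c i).γ l)) b = 0) → ∀ l, φ ((c i).γ l) = 0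
  pair : ∀ i i' (K : Type u) [Field K] (φ : (c i).S →+* K) (φ' : (c i').S →+* K),
    φ.comp (algebraMap k (c i).S) = φ'.comp (algebraMap k (c i').S) → ∀ μ : K,
      (∀ b, lin A (φ.comp (algebraMap k (c i).S)) (fun l => φ ((c i).γ l) - μ * φ' ((c i').γ l)) b = 0) →
        ∀ l, φ ((c i).γ l) = μ * φ' ((c i').γ l)
  tan : ∀ i (K : Type u) [Field K] (φ : (c i).S →+* K) (δ : (c i).S →+ K),
    (∀ x y, δ (x * y) = φ x * δ y + φ y * δ x) → (∀ a : k, δ (algebraMap k (c i).S a) = 0) → ∀ μ : K,
      (∀ b, lin A (φ.comp (algebraMap k (c i).S)) (fun l => δ ((c i).γ l) + μ * φ ((c i).γ l)) b = 0) →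
        ∀ l, δ ((c i).γ l) + μ * φ ((c i).γ l) = 0

/-- Good matrices exist over an infinite field. -/
theorem exists_good [Infinite k] {I : Type u} [Finite I] (c : I → Chart ι d) :
    ∃ A : Fin (2 * d + 1 + 1) → Fin (N + 1) → k, Good c A := by
  classical
  cases nonempty_fintype I
  choose g₀ h₀ H₀ using fun i => exists_poly_base (k := k) (c i).dim_le (c i).γ
  choose g₁ h₁ H₁ using fun ii : I × I => exists_poly_pair (k := k) (c ii.1).hr (c ii.2).hr (c ii.1).γ (c ii.2).γ
  choose g₂ h₂ H₂ using fun i => exists_poly_tangent (k := k) (c i).hr (c i).γ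
  let G := (∏ i, g₀ i) * (∏ ii, g₁ ii) * ∏ i, g₂ i
  have hG : G ≠ 0 := mul_ne_zero (mul_ne_zero (Finset.prod_ne_zero_iff.2 fun i _ => h₀ i)
    (Finset.prod_ne_zero_iff.2 fun ii _ => h₁ ii)) (Finset.prod_ne_zero_iff.2 fun i _ => h₂ i)
  obtain ⟨v, hv⟩ : ∃ v, MvPolynomial.eval v G ≠ 0 := by
    by_contra! h
    exact hG (MvPolynomial.funext fun x => by rw [h x, map_zero])
  refine ⟨fun b l => v (b, l), ?_⟩
  simp only [G, map_mul, map_prod, ne_eq, mul_eq_zero, not_or, Finset.prod_eq_zero_iff, Finset.mem_univ, true_and,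
    not_exists] at hv
  exact ⟨fun i => H₀ i _ (hv.1.1 i), fun i i' => H₁ (i, i') _ (hv.1.2 (i, i')), fun i => H₂ i _ (hv.2 i)⟩

variable {I : Type u} (c : I → Chart ι d) (A : Fin (m + 1) → Fin (N + 1) → k)

/-- The projected coordinates on a chart. -/
def u (i : I) (b : Fin (m + 1)) : (c i).S := lin A (algebraMap k (c i).S) (c i).γ b

/-- The projected point. -/
def img (i : I) {R : Type u} [CommRing R] (φ : (c i).S →+* R) (b : Fin (m + 1)) (hb : IsUnit (φ (u c A i b))) :
    Spec (CommRingCat.of R) ⟶ CohB1.ProjSpace m k :=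
  pR (φ.comp (algebraMap k (c i).S)) (fun b => φ (u c A i b)) b hb

theorem map_img (i : I) {R R' : Type u} [CommRing R] [CommRing R'] (φ : (c i).S →+* R) (b : Fin (m + 1))
    (hb : IsUnit (φ (u c A i b))) (χ : R →+* R') :
    Spec.map (CommRingCat.ofHom χ) ≫ img c A i φ b hb = img c A i (χ.comp φ) b (hb.map χ) := by
  rw [img, map_pR]
  rfl

theorem img_eq_of_eq {i i' : I} {R : Type u} [CommRing R] (φ : (c i).S →+* R) (φ' : (c i').S →+* R)
    (h : Spec.map (CommRingCat.ofHom φ) ≫ (c i).emb = Spec.map (CommRingCat.ofHom φ') ≫ (c i').emb)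
    (b b' : Fin (m + 1)) (hb : IsUnit (φ (u c A i b))) (hb' : IsUnit (φ' (u c A i' b'))) :
    img c A i φ b hb = img c A i' φ' b' hb' := by
  have h' := h =≫ ι
  rw [Category.assoc, Category.assoc, Chart.emb_comp, Chart.emb_comp] at h'
  obtain ⟨e0, s, -, hs⟩ := agree _ _ _ _ _ _ _ _ h'
  unfold img
  simp only [← e0]
  refine (pR_scale _ _ _ s (fun b => ?_) _ _ _ _).symm
  rw [u, u, map_lin, map_lin, ← e0, ← lin_smul]
  exact congrArg (fun v => lin A _ v b) (funext hs)

variable {c} in
theorem exists_unit (hA : Good c A) (i : I) {K : Type u} [Field K] (φ : (c i).S →+* K) :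
    ∃ b, IsUnit (φ (u c A i b)) := by
  by_contra! h
  have h1 := hA.base i K φ (fun b => by
    rw [← map_lin, ← u]
    by_contra hne
    exact h b (isUnit_iff_ne_zero.2 hne)) (c i).j
  rw [Chart.γ_j, map_one] at h1
  exact one_ne_zero h1

/-- The pieces of the domain. -/
abbrev piece (w : I × Fin (m + 1)) : Scheme.{u} := Spec (CommRingCat.of (Localization.Away (u c A w.1 w.2)))

/-- Their inclusions. -/
def inc (w : I × Fin (m + 1)) : piece c A w ⟶ X :=
  Spec.map (CommRingCat.ofHom (algebraMap (c w.1).S (Localization.Away (u c A w.1 w.2)))) ≫ (c w.1).emb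

instance (w : I × Fin (m + 1)) : IsOpenImmersion (inc c A w) :=
  haveI : IsOpenImmersion (Spec.map (CommRingCat.ofHom (algebraMap (c w.1).S (Localization.Away (u c A w.1 w.2))))) :=
    IsOpenImmersion.of_isLocalization (u c A w.1 w.2)
  inferInstanceAs (IsOpenImmersion (_ ≫ _))

/-- The projection on a piece. -/
def pc (w : I × Fin (m + 1)) : piece c A w ⟶ CohB1.ProjSpace m k :=
  img c A w.1 (algebraMap (c w.1).S (Localization.Away (u c A w.1 w.2))) w.2
    (IsLocalization.Away.algebraMap_isUnit _)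

variable {c} {A}
variable (hcov : ∀ x : X, ∃ i, x ∈ Set.range (c i).emb) (hA : Good c A)

include hcov hA in
theorem exists_mem_piece (x : X) : ∃ w, x ∈ Set.range (inc c A w) := by
  obtain ⟨i, z, rfl⟩ := hcov x
  let K := FractionRing ((c i).S ⧸ z.asIdeal)
  let φ : (c i).S →+* K := (algebraMap ((c i).S ⧸ z.asIdeal) K).comp (Ideal.Quotient.mk z.asIdeal)
  obtain ⟨b, hb⟩ := exists_unit A hA i φ
  have hz : u c A i b ∉ z.asIdeal := fun h => hb.ne_zero (by
    show algebraMap ((c i).S ⧸ z.asIdeal) K (Ideal.Quotient.mk z.asIdeal (u c A i b)) = 0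
    rw [Ideal.Quotient.eq_zero_iff_mem.2 h, map_zero])
  obtain ⟨z', hz'⟩ : z ∈ Set.range (PrimeSpectrum.comap (algebraMap (c i).S (Localization.Away (u c A i b)))) := by
    rw [PrimeSpectrum.localization_away_comap_range (Localization.Away (u c A i b)) (u c A i b)]
    exact hz
  refine ⟨(i, b), z', ?_⟩
  show (c i).emb (Spec.map (CommRingCat.ofHom (algebraMap (c i).S (Localization.Away (u c A i b)))) z') = (c i).emb z
  rw [← hz']
  rfl

/-- The cover by pieces. -/
def cover : X.OpenCover where
  I₀ := I × Fin (m + 1)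
  X := piece c A
  f := inc c A
  mem₀ := by
    rw [Scheme.ofArrows_mem_precoverage_iff]
    exact ⟨exists_mem_piece hcov hA, fun w => inferInstance⟩

theorem compat (w w' : I × Fin (m + 1)) :
    pullback.fst (inc c A w) (inc c A w') ≫ pc c A w = pullback.snd (inc c A w) (inc c A w') ≫ pc c A w' := by
  refine Scheme.Cover.hom_ext (pullback (inc c A w) (inc c A w')).affineCover _ _ fun t => ?_
  obtain ⟨φ1, h1⟩ := Spec.map_surjective
    ((pullback (inc c A w) (inc c A w')).affineCover.f t ≫ pullback.fst (inc c A w) (inc c A w'))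
  obtain ⟨φ2, h2⟩ := Spec.map_surjective
    ((pullback (inc c A w) (inc c A w')).affineCover.f t ≫ pullback.snd (inc c A w) (inc c A w'))
  rw [← reassoc_of% h1, ← reassoc_of% h2, pc, pc, ← CommRingCat.ofHom_hom φ1, ← CommRingCat.ofHom_hom φ2]
  erw [map_img, map_img]
  apply img_eq_of_eq
  have h : Spec.map φ1 ≫ inc c A w = Spec.map φ2 ≫ inc c A w' := by
    rw [h1, h2, Category.assoc, Category.assoc, pullback.condition]
  simp only [CommRingCat.ofHom_comp, CommRingCat.ofHom_hom, Spec.map_comp, Category.assoc]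
  exact h

/-- The projection. -/
def proj : X ⟶ CohB1.ProjSpace m k :=
  (cover hcov hA).glueMorphisms (pc c A) (compat (c := c) (A := A))

theorem inc_proj (w : I × Fin (m + 1)) : inc c A w ≫ proj hcov hA = pc c A w :=
  (cover hcov hA).ι_glueMorphisms _ _ w

theorem emb_proj (i : I) {R : Type u} [CommRing R] (φ : (c i).S →+* R) (b : Fin (m + 1))
    (hb : IsUnit (φ (u c A i b))) :
    Spec.map (CommRingCat.ofHom φ) ≫ (c i).emb ≫ proj hcov hA = img c A i φ b hb := by
  let χ : Localization.Away (u c A i b) →+* R := IsLocalization.Away.lift (u c A i b) hb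
  have hχ : χ.comp (algebraMap (c i).S (Localization.Away (u c A i b))) = φ := IsLocalization.Away.lift_comp _ _
  have h : Spec.map (CommRingCat.ofHom χ) ≫ inc c A (i, b) ≫ proj hcov hA =
      Spec.map (CommRingCat.ofHom φ) ≫ (c i).emb ≫ proj hcov hA := by
    show Spec.map (CommRingCat.ofHom χ) ≫ (Spec.map _ ≫ (c i).emb) ≫ proj hcov hA = _
    rw [Category.assoc, ← Spec.map_comp_assoc, ← CommRingCat.ofHom_comp, hχ]
  rw [← h, inc_proj, pc, map_img]
  simp only [hχ]

theorem proj_toSpec : proj hcov hA ≫ CohB1.ProjSpace.toSpec m k = ι ≫ CohB1.ProjSpace.toSpec N k := by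
  refine Scheme.Cover.hom_ext (cover hcov hA) _ _ fun w => ?_
  show inc c A w ≫ proj hcov hA ≫ _ = inc c A w ≫ ι ≫ _
  rw [← Category.assoc, inc_proj, pc, img, pR_toSpec]
  show _ = (Spec.map _ ≫ (c w.1).emb) ≫ ι ≫ _
  rw [Category.assoc, ← Category.assoc (c w.1).emb, ← Category.assoc (Spec.map _), Chart.emb_comp, pR_toSpec]

variable [IsClosedImmersion ι]

theorem universallyInjective_proj : UniversallyInjective (proj hcov hA) := by
  refine ((tfae_universallyInjective (proj hcov hA)).out 0 1).2 ?_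
  intro K instK g g' hg
  letI : Field K := instK
  replace hg : g ≫ proj hcov hA = g' ≫ proj hcov hA := hg
  have key : ∀ g : Spec (CommRingCat.of K) ⟶ X, ∃ (i : I) (φ : (c i).S →+* K),
      Spec.map (CommRingCat.ofHom φ) ≫ (c i).emb = g := fun g => by
    obtain ⟨i, hi⟩ := hcov (g (IsLocalRing.closedPoint K))
    have hle : Set.range g ⊆ Set.range (c i).emb := by
      rintro _ ⟨z, rfl⟩
      rwa [Subsingleton.elim z (IsLocalRing.closedPoint K)]
    obtain ⟨φ, hφ⟩ := Spec.map_surjective (IsOpenImmersion.lift (c i).emb g hle)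
    exact ⟨i, φ.hom, by rw [CommRingCat.ofHom_hom, hφ]; exact IsOpenImmersion.lift_fac _ _ _⟩
  obtain ⟨i, φ, rfl⟩ := key g
  obtain ⟨i', φ', rfl⟩ := key g'
  obtain ⟨b, hb⟩ := exists_unit A hA i φ
  obtain ⟨b', hb'⟩ := exists_unit A hA i' φ'
  rw [Category.assoc, Category.assoc, emb_proj hcov hA i φ b hb, emb_proj hcov hA i' φ' b' hb'] at hg
  obtain ⟨e0, s, -, hs⟩ := agree _ _ _ _ _ _ _ _ hg
  have h := hA.pair i' i K φ' φ e0.symm s fun b => by
    have h1 : (fun l => φ' ((c i').γ l) - s * φ ((c i).γ l)) =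
        fun l => φ' ((c i').γ l) + (-s) * φ ((c i).γ l) := funext fun l => by ring
    have h2 := hs b
    rw [u, u, map_lin, map_lin, e0] at h2
    rw [h1, lin_add, lin_smul, h2]
    ring
  rw [← cancel_mono ι, Category.assoc, Category.assoc, Chart.emb_comp, Chart.emb_comp]
  simp only [← e0]
  exact (pR_scale _ _ _ s h _ _ _ _).symm

omit [IsClosedImmersion ι] in
/-- Derivations trivial on the coordinates are trivial on the chart. -/
theorem eq_zero_of_coord (i : I) [IsClosedImmersion ι] {K : Type u} [Field K] (φ : (c i).S →+* K)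
    (δ : (c i).S →+ K) (hδ : ∀ x y, δ (x * y) = φ x * δ y + φ y * δ x) (hδk : ∀ a : k, δ (algebraMap k (c i).S a) = 0)
    (h : ∀ l, δ ((c i).γ l) = 0) (x : (c i).S) : δ x = 0 := by
  have hψ : ∀ y, δ ((c i).ψ y) = 0 := fun y => by
    obtain ⟨n, p, hp, rfl⟩ := Away.mk_surjective (CohB1.polyGrading N k) (X_mem (c i).j) y
    rw [mk_eq_eval, map_eval₂Hom, (c i).hσ]
    clear hp
    induction p using MvPolynomial.induction_on with
    | C a => simp [hδk]
    | add p q hp hq => rw [map_add, map_add, hp, hq, add_zero]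
    | mul_X p l hp => rw [map_mul, hδ, hp, eval₂Hom_X', show δ ((c i).ψ (crd (c i).j l)) = 0 from h l, mul_zero,
        mul_zero, zero_add]
  letI : Algebra (CR N k (c i).j) (c i).S := (c i).ψ.toAlgebra
  letI : Algebra (CR N k (c i).j) K := (φ.comp (c i).ψ).toAlgebra
  letI : Algebra (c i).S K := φ.toAlgebra
  haveI : IsScalarTower (CR N k (c i).j) (c i).S K := IsScalarTower.of_algebraMap_eq fun _ => rfl
  haveI : Algebra.FormallyUnramified (CR N k (c i).j) (c i).S := by
    haveI : Mono ((c i).emb ≫ ι) := mono_comp _ _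
    haveI : Mono (Spec.map (CommRingCat.ofHom (c i).ψ) ≫ ch N k (c i).j) := by rw [(c i).hψ]; infer_instance
    haveI : Mono (Spec.map (CommRingCat.ofHom (c i).ψ)) := mono_of_mono _ (ch N k (c i).j)
    haveI : IsIso (pullback.diagonal (Spec.map (CommRingCat.ofHom (c i).ψ))) := inferInstance
    have h : FormallyUnramified (Spec.map (CommRingCat.ofHom (c i).ψ)) := inferInstance
    exact (HasRingHomProperty.Spec_iff (P := @FormallyUnramified)).1 h
  let Δ : Derivation (CR N k (c i).j) (c i).S K :=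
    Derivation.mk'
      { toFun := δ
        map_add' := δ.map_add
        map_smul' := fun a y => by
          rw [Algebra.smul_def, hδ, show δ (algebraMap (CR N k (c i).j) (c i).S a) = 0 from hψ a, mul_zero, add_zero,
            RingHom.id_apply, Algebra.smul_def]
          rfl }
      fun y y' => by
        show δ (y * y') = y • δ y' + y' • δ y
        rw [hδ, Algebra.smul_def, Algebra.smul_def]
        rfl
  show Δ x = 0
  rw [← Derivation.liftKaehlerDifferential_comp_D Δ x,
    Subsingleton.elim (KaehlerDifferential.D (CR N k (c i).j) (c i).S x) 0, map_zero]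

include hA in
theorem formallyUnramified_pc (w : I × Fin (m + 1)) : FormallyUnramified (pc c A w) := by
  obtain ⟨i, b⟩ := w
  let T := Localization.Away (u c A i b)
  let al : (c i).S →+* T := algebraMap (c i).S T
  let ub : IsUnit (al (u c A i b)) := IsLocalization.Away.algebraMap_isUnit _
  let χ : CR m k b →+* T := pHom (al.comp (algebraMap k (c i).S)) (fun b => al (u c A i b)) b ub
  suffices h : χ.FormallyUnramified by
    haveI : FormallyUnramified (Spec.map (CommRingCat.ofHom χ)) :=
      (HasRingHomProperty.Spec_iff (P := @FormallyUnramified)).2 h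
    show FormallyUnramified (Spec.map (CommRingCat.ofHom χ) ≫ ch m k b)
    haveI : FormallyUnramified (ch m k b) := inferInstance
    exact MorphismProperty.comp_mem _ _ _ ‹FormallyUnramified (Spec.map (CommRingCat.ofHom χ))› ‹FormallyUnramified (ch m k b)›
  letI : Algebra (CR m k b) T := χ.toAlgebra
  haveI : Algebra.FiniteType k T := Algebra.FiniteType.trans (S := (c i).S) inferInstance inferInstance
  have hchi : χ.comp (cst b) = algebraMap k T := RingHom.ext fun a => by
    rw [RingHom.comp_apply, show χ (cst b a) = al (algebraMap k (c i).S a) from pHom_cst _ _ _ _ a]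
    exact (IsScalarTower.algebraMap_apply k (c i).S T a).symm
  haveI : Algebra.FiniteType (CR m k b) T := by
    have h1 : (χ.comp (cst b)).FiniteType := by rw [hchi]; exact RingHom.finiteType_algebraMap.2 ‹_›
    exact RingHom.finiteType_algebraMap.1 (RingHom.FiniteType.of_comp_finiteType h1)
  refine ⟨not_nontrivial_iff_subsingleton.1 fun hΩ => ?_⟩
  obtain ⟨Q, hQ, -⟩ := (eq_top_or_exists_le_coatom (⊥ : Submodule T Ω[T⁄CR m k b])).resolve_left bot_ne_top
  haveI := isSimpleModule_iff_isCoatom.2 hQ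
  obtain ⟨J, hJ, ⟨e⟩⟩ := isSimpleModule_iff_quot_maximal.1
    (inferInstance : IsSimpleModule T (Ω[T⁄CR m k b] ⧸ Q))
  let θ : Ω[T⁄CR m k b] →ₗ[T] T ⧸ J := e.toLinearMap ∘ₗ Q.mkQ
  have hθ : Function.Surjective θ := e.surjective.comp Q.mkQ_surjective
  letI : Field (T ⧸ J) := Ideal.Quotient.field J
  let π : T →+* T ⧸ J := Ideal.Quotient.mk J
  let D₀ := KaehlerDifferential.D (CR m k b) T
  let δ : (c i).S →+ T ⧸ J := AddMonoidHom.mk' (fun s => θ (D₀ (al s))) fun s s' => by
    rw [map_add, map_add, map_add]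
  have hsmul : ∀ (t : T) (x : T ⧸ J), t • x = π t * x := fun t x => by
    obtain ⟨y, rfl⟩ := Ideal.Quotient.mk_surjective x
    rfl
  have hleib : ∀ x y : T, θ (D₀ (x * y)) = π x * θ (D₀ y) + π y * θ (D₀ x) := fun x y => by
    rw [Derivation.leibniz, map_add, map_smul, map_smul, hsmul, hsmul]
  have hδ : ∀ x y, δ (x * y) = π (al x) * δ y + π (al y) * δ x := fun x y => by
    show θ (D₀ (al (x * y))) = _
    rw [map_mul, hleib]
    rfl
  have hk : ∀ a : k, δ (algebraMap k (c i).S a) = 0 := fun a => by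
    show θ (D₀ (al (algebraMap k (c i).S a))) = 0
    rw [show al (algebraMap k (c i).S a) = algebraMap (CR m k b) T (cst b a) from (pHom_cst (al.comp (algebraMap k (c i).S)) (fun b => al (u c A i b)) b ub a).symm,
      Derivation.map_algebraMap, map_zero]
  let φ : (c i).S →+* T ⧸ J := π.comp al
  have hlin : ∀ b', δ (u c A i b') = lin A (φ.comp (algebraMap k (c i).S)) (fun l => δ ((c i).γ l)) b' := fun b' => by
    show δ (lin A (algebraMap k (c i).S) (c i).γ b') = _
    rw [lin, map_sum, lin]
    exact Finset.sum_congr rfl fun l _ => by rw [hδ, hk, mul_zero, add_zero]; rfl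
  have hu0 : φ (u c A i b) ≠ 0 := (ub.map π).ne_zero
  have hrel : ∀ b', φ (u c A i b) * δ (u c A i b') = φ (u c A i b') * δ (u c A i b) := fun b' => by
    have h1 : algebraMap (CR m k b) T (crd b b') * al (u c A i b) = al (u c A i b') := pHom_crd _ _ _ ub b'
    have h2 : θ (D₀ (al (u c A i b'))) = π (algebraMap (CR m k b) T (crd b b')) * θ (D₀ (al (u c A i b))) := by
      conv_lhs => rw [← h1]
      rw [hleib, Derivation.map_algebraMap, map_zero, mul_zero, add_zero]
    show π (al (u c A i b)) * θ (D₀ (al (u c A i b'))) = π (al (u c A i b')) * θ (D₀ (al (u c A i b)))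
    rw [h2, ← h1, map_mul]
    ring
  let μ : T ⧸ J := -(δ (u c A i b) / φ (u c A i b))
  have hμ := hA.tan i (T ⧸ J) φ δ hδ hk μ fun b' => by
    rw [lin_add, lin_smul, ← hlin, ← map_lin, ← u]
    simp only [μ]
    field_simp
    linear_combination hrel b'
  have hμ0 : μ = 0 := by
    have h1 := hμ (c i).j
    have h2 : δ 1 = 0 := by rw [← map_one (algebraMap k (c i).S)]; exact hk 1
    rw [Chart.γ_j, h2, zero_add, map_one φ, mul_one] at h1
    exact h1
  have hS := eq_zero_of_coord i φ δ hδ hk fun l => by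
    have := hμ l
    rwa [hμ0, zero_mul, add_zero] at this
  have hT : ∀ t : T, θ (D₀ t) = 0 := fun t => by
    obtain ⟨⟨s, q⟩, hsq⟩ := IsLocalization.surj (Submonoid.powers (u c A i b)) t
    have h1 := congrArg (fun z => θ (D₀ z)) hsq
    rw [show θ (D₀ (algebraMap (c i).S T s)) = 0 from hS s, hleib,
      show θ (D₀ (algebraMap (c i).S T (q : (c i).S))) = 0 from hS _, mul_zero, zero_add] at h1
    exact (mul_eq_zero.1 h1).resolve_left ((IsLocalization.map_units T q).map π).ne_zero
  obtain ⟨x, hx⟩ := hθ 1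
  have hx0 : x ∈ LinearMap.ker θ := (Submodule.span_le.2 (by rintro _ ⟨t, rfl⟩; exact hT t) :
    Submodule.span T (Set.range D₀) ≤ LinearMap.ker θ) (by
      rw [KaehlerDifferential.span_range_derivation]; trivial)
  rw [LinearMap.mem_ker, hx] at hx0
  exact one_ne_zero hx0

include hcov hA in
theorem isClosedImmersion_proj : IsClosedImmersion (proj hcov hA) := by
  haveI : IsProper (CohB1.ProjSpace.toSpec N k) := PnCoh.Chow.isProper_toSpec N k
  haveI : IsProper (CohB1.ProjSpace.toSpec m k) := PnCoh.Chow.isProper_toSpec m k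
  haveI : IsProper (proj hcov hA ≫ CohB1.ProjSpace.toSpec m k) := by rw [proj_toSpec]; infer_instance
  haveI : IsProper (proj hcov hA) := IsProper.of_comp _ (CohB1.ProjSpace.toSpec m k)
  haveI : FormallyUnramified (proj hcov hA) :=
    IsZariskiLocalAtSource.of_openCover (P := @FormallyUnramified) (cover hcov hA) fun w => by
      show FormallyUnramified (inc c A w ≫ proj hcov hA)
      rw [inc_proj]
      exact formallyUnramified_pc hA w
  haveI := universallyInjective_proj hcov hA
  haveI : Surjective (pullback.diagonal (proj hcov hA)) :=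
    (UniversallyInjective.iff_diagonal _).1 inferInstance
  haveI : IsIso (pullback.diagonal (proj hcov hA)) :=
    (isIso_iff_isOpenImmersion_and_surjective _).2 ⟨inferInstance, inferInstance⟩
  haveI : Mono (proj hcov hA) := (pullback.isIso_diagonal_iff _).1 inferInstance
  exact (IsClosedImmersion.iff_isProper_and_mono _).2 ⟨inferInstance, inferInstance⟩

/-- A smooth projective scheme of dimension `d` embeds in projective `2d+1` space. -/
theorem exists_embedding [Infinite k] [Smooth (ι ≫ CohB1.ProjSpace.toSpec N k)]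
    (hd : topologicalKrullDim X ≤ d) :
    ∃ f : X ⟶ CohB1.ProjSpace (2 * d + 1) k,
      IsClosedImmersion f ∧ f ≫ CohB1.ProjSpace.toSpec (2 * d + 1) k = ι ≫ CohB1.ProjSpace.toSpec N k := by
  haveI : IsProper (CohB1.ProjSpace.toSpec N k) := PnCoh.Chow.isProper_toSpec N k
  haveI : CompactSpace X := QuasiCompact.compactSpace_of_compactSpace (ι ≫ CohB1.ProjSpace.toSpec N k)
  choose ch₀ hch using fun x : X => exists_chart ι hd x
  obtain ⟨t, ht⟩ := isCompact_univ.elim_finite_subcover (fun x : X => Set.range (ch₀ x).emb)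
    (fun x => (ch₀ x).emb.isOpenEmbedding.isOpen_range) fun x _ => Set.mem_iUnion.2 ⟨x, hch x⟩
  let c : ↥t → Chart ι d := fun x => ch₀ x.1
  have hcov : ∀ x : X, ∃ i, x ∈ Set.range (c i).emb := fun x => by
    obtain ⟨y, hy, hxy⟩ := Set.mem_iUnion₂.1 (ht (Set.mem_univ x))
    exact ⟨⟨y, hy⟩, hxy⟩
  obtain ⟨A, hA⟩ := exists_good c
  exact ⟨proj hcov hA, isClosedImmersion_proj hcov hA, proj_toSpec hcov hA⟩

end Groth.Agent.LinProj
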