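import Groth.Agent.ProjPt.Poly
import Groth.Agent.ProjPt.Sections

/-!
# Ring valued points of projective space over a ring
-/

set_option autoImplicit false
set_option backward.isDefEq.respectTransparency false
set_option backward.isDefEq.respectTransparency.types false

universe u

open AlgebraicGeometry HomogeneousLocalization CategoryTheory CategoryTheory.Limits MvPolynomial

noncomputable section

namespace Groth.Agent.LinProj

open Groth.Agent.ProjPt

variable {n : ℕ} {k : Type u} [CommRing k] {R R' : Type u} [CommRing R] [CommRing R']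

/-- The ring of a chart. -/
abbrev CR (n : ℕ) (k : Type u) [CommRing k] (j : Fin (n + 1)) : Type u :=
  Away (CohB1.polyGrading n k) (X j)

/-- The chart. -/
def ch (n : ℕ) (k : Type u) [CommRing k] (j : Fin (n + 1)) :
    Spec (CommRingCat.of (CR n k j)) ⟶ CohB1.ProjSpace n k :=
  Proj.awayι (CohB1.polyGrading n k) (X j) (X_mem j) one_pos

instance (j : Fin (n + 1)) : IsOpenImmersion (ch n k j) :=
  inferInstanceAs (IsOpenImmersion (Proj.awayι (CohB1.polyGrading n k) (X j) (X_mem j) one_pos))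

theorem range_ch (j : Fin (n + 1)) :
    (ch n k j).opensRange = Proj.basicOpen (CohB1.polyGrading n k) (X j) :=
  Proj.opensRange_awayι (CohB1.polyGrading n k) (X j) (X_mem j) one_pos

/-- The ring map of a point. -/
def pHom (c0 : k →+* R) (v : Fin (n + 1) → R) (b : Fin (n + 1)) (hb : IsUnit (v b)) : CR n k b →+* R :=
  coordHom (CohB1.polyGrading n k) (eval₂Hom c0 v) (t := X b) (by rwa [eval₂Hom_X'])

theorem comp_pHom (φ : R →+* R') (c0 : k →+* R) (v : Fin (n + 1) → R) (b : Fin (n + 1)) (hb : IsUnit (v b)) :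
    φ.comp (pHom c0 v b hb) = pHom (φ.comp c0) (fun l => φ (v l)) b (hb.map φ) := by
  rw [pHom, comp_coordHom]
  simp only [pHom, comp_eval₂Hom]

theorem pHom_cst (c0 : k →+* R) (v : Fin (n + 1) → R) (b : Fin (n + 1)) (hb : IsUnit (v b)) (a : k) :
    pHom c0 v b hb (cst b a) = c0 a := by
  rw [pHom, coordHom_cst, eval₂Hom_C]

theorem pHom_crd (c0 : k →+* R) (v : Fin (n + 1) → R) (b : Fin (n + 1)) (hb : IsUnit (v b)) (l : Fin (n + 1)) :
    pHom c0 v b hb (crd b l) * v b = v l := by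
  have h := coordHom_mk_mul (CohB1.polyGrading n k) (eval₂Hom c0 v) (t := X b) (by rwa [eval₂Hom_X'])
    (X_mem b) 1 (X l) (by rw [one_smul]; exact X_mem l)
  simp only [eval₂Hom_X', pow_one] at h
  exact h

/-- The point with given coordinates. -/
def pR (c0 : k →+* R) (v : Fin (n + 1) → R) (b : Fin (n + 1)) (hb : IsUnit (v b)) :
    Spec (CommRingCat.of R) ⟶ CohB1.ProjSpace n k :=
  Spec.map (CommRingCat.ofHom (pHom c0 v b hb)) ≫ ch n k b

theorem map_pR (φ : R →+* R') (c0 : k →+* R) (v : Fin (n + 1) → R) (b : Fin (n + 1)) (hb : IsUnit (v b)) :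
    Spec.map (CommRingCat.ofHom φ) ≫ pR c0 v b hb = pR (φ.comp c0) (fun l => φ (v l)) b (hb.map φ) := by
  rw [pR, pR, ← Spec.map_comp_assoc, ← CommRingCat.ofHom_comp, comp_pHom]

theorem pR_indep (c0 : k →+* R) (v : Fin (n + 1) → R) (b b' : Fin (n + 1)) (hb : IsUnit (v b))
    (hb' : IsUnit (v b')) : pR c0 v b hb = pR c0 v b' hb' := by
  have hu : IsUnit (eval₂Hom c0 v (X b)) := by rwa [eval₂Hom_X']
  have hu' : IsUnit (eval₂Hom c0 v (X b')) := by rwa [eval₂Hom_X']
  have hux : IsUnit (eval₂Hom c0 v (X b * X b')) := by rw [map_mul]; exact hu.mul hu'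
  have h1 := coordHom_awayMap (CohB1.polyGrading n k) (eval₂Hom c0 v) (X_mem b) (X_mem b') rfl hu hux
  have h2 := coordHom_awayMap (CohB1.polyGrading n k) (eval₂Hom c0 v) (X_mem b') (X_mem b)
    (mul_comm (X b) (X b')) hu' hux
  unfold pR pHom ch
  rw [← h1, ← h2, CommRingCat.ofHom_comp, CommRingCat.ofHom_comp, Spec.map_comp, Spec.map_comp, Category.assoc,
    Category.assoc, Proj.SpecMap_awayMap_awayι, Proj.SpecMap_awayMap_awayι]

theorem pR_scale (c0 : k →+* R) (v v' : Fin (n + 1) → R) (c : R) (hv : ∀ l, v' l = c * v l)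
    (b b' : Fin (n + 1)) (hb : IsUnit (v b)) (hb' : IsUnit (v' b')) :
    pR c0 v' b' hb' = pR c0 v b hb := by
  have hb'' : IsUnit (v b') := by rw [hv] at hb'; exact (IsUnit.mul_iff.1 hb').2
  rw [pR_indep c0 v b b' hb hb'']
  unfold pR pHom
  rw [coordHom_scale (CohB1.polyGrading n k) _ _ (X_mem b') c (fun d a ha => eval₂Hom_scale c0 v v' c hv ha)]

theorem pR_toSpec (c0 : k →+* R) (v : Fin (n + 1) → R) (b : Fin (n + 1)) (hb : IsUnit (v b)) :
    pR c0 v b hb ≫ CohB1.ProjSpace.toSpec n k = Spec.map (CommRingCat.ofHom c0) := by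
  unfold pR ch
  show (Spec.map _ ≫ Proj.awayι _ _ _ _) ≫ Proj.toSpecZero _ ≫ Spec.map _ = _
  rw [Category.assoc, Proj.awayι_toSpecZero_assoc, ← Spec.map_comp, ← Spec.map_comp]
  congr 1
  ext a
  exact pHom_cst c0 v b hb a

/-- A point in a chart, through its coordinates. -/
theorem chart_eq (j : Fin (n + 1)) (ψ : CR n k j →+* R) :
    Spec.map (CommRingCat.ofHom ψ) ≫ ch n k j =
      pR (ψ.comp (cst j)) (fun l => ψ (crd j l)) j (by rw [crd_self, map_one]; exact isUnit_one) := by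
  rw [pR, pHom, ← eq_coordHom j ψ]

/-- Points with the same image have proportional coordinates. -/
theorem agree (c0 c0' : k →+* R) (v v' : Fin (n + 1) → R) (b b' : Fin (n + 1)) (hb : IsUnit (v b))
    (hb' : IsUnit (v' b')) (h : pR c0 v b hb = pR c0' v' b' hb') :
    c0 = c0' ∧ ∃ c : R, IsUnit c ∧ ∀ l, v' l = c * v l := by
  constructor
  · have h1 := congrArg (fun g => g ≫ CohB1.ProjSpace.toSpec n k) h
    simp only [pR_toSpec] at h1
    exact congrArg CommRingCat.Hom.hom (Spec.map_injective h1)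
  · let e := Scheme.ΓSpecIso (CommRingCat.of R)
    have hW : ∀ {S : Type u} [CommRing S] (φ : S →+* R),
        Spec.map (CommRingCat.ofHom φ) = (Spec (CommRingCat.of R)).toSpecΓ ≫
          Spec.map (CommRingCat.ofHom (e.inv.hom.comp φ)) := fun {S} _ φ => by
      rw [CommRingCat.ofHom_comp, Spec.map_comp, CommRingCat.ofHom_hom, ← Category.assoc]
      simp [e, ← SpecMap_ΓSpecIso_hom, ← Spec.map_comp_assoc]
    obtain ⟨c, hc, hk⟩ := exists_unit_of_agree (CohB1.polyGrading n k) (X_mem b) (X_mem b')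
      (Spec.map (CommRingCat.ofHom (pHom c0 v b hb))) (Spec.map (CommRingCat.ofHom (pHom c0' v' b' hb'))) h _ _
      (hW _) (hW _)
    obtain ⟨w, hw⟩ := hb
    refine ⟨e.hom c * v' b' * ((w⁻¹ : Rˣ) : R), ((hc.map e.hom.hom).mul hb').mul (w⁻¹).isUnit, fun l => ?_⟩
    have h1 : e.hom.hom (e.inv.hom (pHom c0' v' b' hb' (crd b' l))) =
        e.hom.hom (c * e.inv.hom (pHom c0 v b ⟨w, hw⟩ (crd b l))) := congrArg e.hom.hom (hk (X l) (X_mem l))
    rw [map_mul, e.inv_hom_id_apply, e.inv_hom_id_apply] at h1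
    calc v' l = pHom c0' v' b' hb' (crd b' l) * v' b' := (pHom_crd c0' v' b' hb' l).symm
      _ = e.hom c * v' b' * ((w⁻¹ : Rˣ) : R) * (pHom c0 v b ⟨w, hw⟩ (crd b l) * (w : R)) := by
        rw [h1]
        calc _ = e.hom c * v' b' * pHom c0 v b ⟨w, hw⟩ (crd b l) * (((w⁻¹ : Rˣ) : R) * (w : R)) := by
              rw [Units.inv_mul, mul_one]; ring
          _ = _ := by ring
      _ = _ := by rw [hw, pHom_crd c0 v b ⟨w, hw⟩ l]

end Groth.Agent.LinProj
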